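import Groth.Agent.AlgSpB.GrpField.FibreCover
import Groth.Agent.AlgSpB.BigField.Descent
import Groth.Agent.S10463
import Groth.Agent.S10007
import Mathlib.FieldTheory.PurelyInseparable.Basic
import Mathlib.FieldTheory.SeparableClosure

/-!
# A finite separable extension over which a space becomes a scheme
-/

universe u

open CategoryTheory CategoryTheory.Limits AlgebraicGeometry Opposite TensorProduct

set_option backward.isDefEq.respectTransparency false
set_option backward.isDefEq.respectTransparency.types false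
set_option autoImplicit false

attribute [local instance] CategoryTheory.isConnected_of_hasTerminal

namespace Groth.Agent.AlgSpB.SepDescent

open _root_.AlgSp Groth.Agent.AlgSp Groth.Agent.AlgSp.LimSep Groth.Agent.AlgSp.LimAffineMor
open Groth.Agent.AlgSpB.GrpField Groth.Agent.AlgSpB.BigField

variable {k : Type u} [Field k] {X : Space (Spec (CommRingCat.of k))}

set_option maxHeartbeats 800000 in
/-- Over the algebraic closure, a scheme structure descends to a finite extension. -/
theorem exists_finite_stage (hqc : IsQuasiCompactSp X.obj) (hqs : IsQuasiSeparatedSp X.obj)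
    (K : Type u) [Field K] [Algebra k K] [Algebra.IsAlgebraic k K]
    (h : (X.obj ⨯ (yon _).obj (extObj k K)).obj.IsRepresentable) :
    ∃ (N : Type u) (_ : Field N) (_ : Algebra k N), Module.Finite k N ∧
      (X.obj ⨯ (yon _).obj (extObj k N)).obj.IsRepresentable := by
  classical
  let S := Spec (CommRingCat.of k)
  have : QuasiSeparatedSpace S := inferInstanceAs (QuasiSeparatedSpace (Spec _))
  let hT := LimSepAbs.isTerminalBase (S := S)
  let Lo : Over S := Over.mk (𝟙 S)
  let Ko := extObj k K
  let φ : Ko ⟶ Lo := Over.homMk Ko.hom (Category.comp_id _)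
  let π₀ := hT.from X.obj
  have sq : IsPullback prod.snd prod.fst ((yon S).map φ) π₀ := by
    rw [hT.hom_ext ((yon S).map φ) (hT.from _)]
    exact (IsPullback.of_is_product (prodIsProd X.obj ((yon S).obj Ko)) hT).flip
  let st : ∀ s : (Finset K)ᵒᵖ, (Groth.Agent.LimLib.fgDiagram k K).obj s ⟶ S := fun s =>
    Spec.map (CommRingCat.ofHom (algebraMap k (Algebra.adjoin k (s.unop : Set K))))
  have hst : ∀ {s s' : (Finset K)ᵒᵖ} (f : s ⟶ s'), (Groth.Agent.LimLib.fgDiagram k K).map f ≫ st s' = st s :=
    fun {s s'} f => by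
      refine (Spec.map_comp _ _).symm.trans (congrArg Spec.map ?_)
      ext r
      rfl
  let DA : (Finset K)ᵒᵖ ⥤ Over S :=
    { obj := fun s => Over.mk (st s)
      map := fun {s s'} f => Over.homMk ((Groth.Agent.LimLib.fgDiagram k K).map f) (hst f)
      map_id := fun s => Over.OverMorphism.ext ((Groth.Agent.LimLib.fgDiagram k K).map_id s)
      map_comp := fun f g => Over.OverMorphism.ext ((Groth.Agent.LimLib.fgDiagram k K).map_comp f g) }
  let χ : ∀ s, DA.obj s ⟶ Lo := fun s => Over.homMk (st s) (Category.comp_id _)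
  have hcK : ∀ s, ((Groth.Agent.LimLib.fgCone k K).π.app s) ≫ st s = Spec.map (CommRingCat.ofHom (algebraMap k K)) :=
    fun s => by
      refine (Spec.map_comp _ _).symm.trans (congrArg Spec.map ?_)
      ext r
      rfl
  let cA : Cone DA :=
    { pt := Ko
      π :=
        { app := fun s => Over.homMk ((Groth.Agent.LimLib.fgCone k K).π.app s) (hcK s)
          naturality := fun s s' f => Over.OverMorphism.ext (by
            exact (Category.id_comp _).trans ((Groth.Agent.LimLib.fgCone k K).w f).symm) } }
  have hcA : IsLimit cA := isLimitOfReflects (Over.forget S)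
    (IsLimit.ofIsoLimit (Groth.Agent.LimLib.isLimitFgCone k K)
      (Cone.ext (Iso.refl _) (fun s => by exact (Category.id_comp _).symm)))
  let D := DA ⋙ yon S
  let c := (yon S).mapCone cA
  have hc : IsLimit c := isLimitOfPreserves (yon S) hcA
  let t : D ⟶ (Functor.const (Finset K)ᵒᵖ).obj ((yon S).obj Lo) :=
    { app := fun s => (yon S).map (χ s)
      naturality := fun s s' f => hT.hom_ext _ _ }
  obtain ⟨πQ, C, hC, eQ, heQ, hπ₂⟩ := exists_limit' t π₀ hc (g := (yon S).map φ) (fun s => hT.hom_ext _ _) sq
  have hDaff : ∀ s, IsAffine (DA.obj s).left := fun s => inferInstanceAs (IsAffine (Spec _))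
  have hB : ∀ s, IsAlgSpace ((bcSys t π₀).obj s) := fun s =>
    Groth.Agent.AlgSp.isAlgSpace_pullback (IsAlgSpace.yon_obj Lo) (IsAlgSpace.yon_obj (DA.obj s)) X.property _ _
  have hBq : ∀ s, IsQuasiCompactSp ((bcSys t π₀).obj s) ∧ IsQuasiSeparatedSp ((bcSys t π₀).obj s) := fun s => by
    have : IsAffineHom (χ s).left := inferInstanceAs (IsAffineHom (Spec.map _))
    have hsnd : RepWith @IsAffineHom (pullback.snd (tY t s) π₀) :=
      MorphismProperty.of_isPullback (IsPullback.of_hasPullback (tY t s) π₀)
        ((repWith_yon_map_iff _ (χ s)).2 ‹_›)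
    exact ⟨Groth.Agent.AlgSp.isQuasiCompactMor_of_repWith X.property
      (Groth.Agent.AlgSp.repWith_mono (fun g hg => (have : IsAffineHom g := hg; inferInstance : QuasiCompact g)) hsnd)
      X.property hqc (𝟙 _) (𝟙 _) (pullback.snd (tY t s) π₀)
      (IsPullback.of_horiz_isIso ⟨(Category.id_comp _).trans (Category.comp_id _).symm⟩),
    Groth.Agent.AlgSp.LimAffine.isQuasiSeparatedSp_of_mor _ (Groth.Agent.AlgSp.repWith_mono
      (fun g hg => (have : IsClosedImmersion g := hg; inferInstance : QuasiCompact g))
      (Groth.Agent.AlgSp.LimMono.diagonal_of_isAffineMor (hB s) ((Groth.Agent.AlgSp.isAffineMor_iff _).2 hsnd))) hqs⟩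
  obtain ⟨W, ⟨eW⟩⟩ := exists_iso_of_isRepresentable h
  obtain ⟨s, hs⟩ := Groth.Agent.S10007.result S (bcSys t π₀) hB
    (isAffineMor_bcSys t π₀ (Groth.Agent.AlgSp.LimLP.isAffineMor_yon_map hDaff)) (fun s => (hBq s).1)
    (fun s => (hBq s).2) C hC (isRepresentable_of_iso (eW ≪≫ eQ))
  let A := Algebra.adjoin k (s.unop : Set K)
  have : Algebra.IsIntegral k K := Algebra.IsAlgebraic.isIntegral
  have : Algebra.FiniteType k A := ⟨(Subalgebra.fg_top _).2 ⟨s.unop, rfl⟩⟩
  have : Algebra.IsIntegral k A :=
    ⟨fun r => (isIntegral_algHom_iff A.val Subtype.val_injective).1 (Algebra.IsIntegral.isIntegral (r : K))⟩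
  have : Module.Finite k A := Algebra.IsIntegral.finite
  letI := (isField_of_isIntegral_of_isField' (R := k) (S := A) (Field.toIsField k)).toField
  refine ⟨A, inferInstance, inferInstance, inferInstance, ?_⟩
  obtain ⟨W', ⟨eW'⟩⟩ := exists_iso_of_isRepresentable hs
  have sP : IsPullback (prod.snd : X.obj ⨯ (yon S).obj (DA.obj s) ⟶ _) prod.fst ((yon S).map (χ s)) π₀ := by
    rw [hT.hom_ext ((yon S).map (χ s)) (hT.from _)]
    exact (IsPullback.of_is_product (prodIsProd X.obj _) hT).flip
  exact isRepresentable_of_iso (eW' ≪≫ (IsPullback.of_hasPullback (tY t s) π₀).isoIsPullback _ _ sP)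

/-- The spectrum of a purely inseparable extension is universally injective. -/
theorem universallyInjective_of_purelyInseparable (L N : Type u) [Field L] [Field N] [Algebra L N]
    [IsPurelyInseparable L N] : UniversallyInjective (Spec.map (CommRingCat.ofHom (algebraMap L N))) := by
  rw [UniversallyInjective.iff_diagonal]
  let f := Spec.map (CommRingCat.ofHom (algebraMap L N))
  have h1 : Subsingleton (PrimeSpectrum (N ⊗[L] N)) :=
    ((PrimeSpectrum.comapEquiv (Algebra.TensorProduct.comm L N N).toRingEquiv).toEquiv.subsingleton_congr).2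
      (PrimeSpectrum.isHomeomorph_comap_of_isPurelyInseparable L N N).bijective.injective.subsingleton
  have : Subsingleton ↥(Spec (CommRingCat.of (N ⊗[L] N))) := h1
  have h2 : Subsingleton ↥(pullback f f) := (pullbackSpecIso L N N).hom.homeomorph.injective.subsingleton
  exact ⟨fun y => ⟨IsLocalRing.closedPoint N, Subsingleton.elim _ _⟩⟩

/-- Universally injective maps are injective on points. -/
theorem injective_map {S : Scheme.{u}} {F G : Sp S} (f : F ⟶ G) (hf : RepWith @UniversallyInjective f) :
    Function.Injective (Points.map f) := by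
  intro a b hab
  obtain ⟨p, hp⟩ := exists_eq_ofPt_toHom (Points.map f a)
  obtain ⟨W, snd, fst, sq⟩ := hf.1 p.toHom
  have : UniversallyInjective snd.left := hf.2 _ _ _ sq
  obtain ⟨t₀⟩ : Nonempty p.pt.left := inferInstanceAs (Nonempty (Spec (CommRingCat.of p.K)))
  have : Subsingleton p.pt.left := inferInstanceAs (Subsingleton (PrimeSpectrum p.K))
  have : Subsingleton W.left := snd.left.injective.subsingleton
  obtain ⟨qa, ha, -⟩ := exists_of_isPullback sq a (Points.ofScheme p.pt t₀)
    (by rw [← Points.ofPt_eq_map_ofScheme, hp])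
  obtain ⟨qb, hb, -⟩ := exists_of_isPullback sq b (Points.ofScheme p.pt t₀)
    (by rw [← Points.ofPt_eq_map_ofScheme, hp, hab])
  rw [← ha, ← hb, show qa = qb from (Points.schemeEquiv W).symm.injective (Subsingleton.elim _ _)]

set_option maxHeartbeats 800000 in
/-- A finite separable extension over which the space becomes a scheme. -/
theorem exists_separable (hqc : IsQuasiCompactSp X.obj) (hqs : IsQuasiSeparatedSp X.obj) (K : Type u) [Field K]
    [Algebra k K] (h : (X.obj ⨯ (yon _).obj (extObj k K)).obj.IsRepresentable) :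
    ∃ (k' : Type u) (_ : Field k') (_ : Algebra k k'), Module.Finite k k' ∧ Algebra.IsSeparable k k' ∧
      (X.obj ⨯ (yon _).obj (extObj k k')).obj.IsRepresentable := by
  obtain ⟨N, _, _, hN, hNrep⟩ := exists_finite_stage hqc hqs (AlgebraicClosure k)
    (Groth.Agent.S10463.result k X hqs K h (AlgebraicClosure k))
  have := hN
  let k' := separableClosure k N
  refine ⟨k', inferInstance, inferInstance, inferInstance, inferInstance, ?_⟩
  let S := Spec (CommRingCat.of k)
  let hT := LimSepAbs.isTerminalBase (S := S)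
  let ko := extObj k k'
  let No := extObj k N
  let ι : No ⟶ ko := Over.homMk (Spec.map (CommRingCat.ofHom (algebraMap k' N))) (by
    refine (Spec.map_comp _ _).symm.trans (congrArg Spec.map ?_)
    ext r
    exact (IsScalarTower.algebraMap_apply k k' N r).symm)
  have hsp : ∀ (A : Over S), IsAlgSpace (X.obj ⨯ (yon S).obj A) := fun A =>
    Groth.Agent.AlgSp.isAlgSpace_of_isPullback' (IsAlgSpace.yon_obj _) X.property (IsAlgSpace.yon_obj A)
      (IsPullback.of_is_product (prodIsProd _ _) hT)
  let f : (⟨_, hsp No⟩ : Space S) ⟶ ⟨_, hsp ko⟩ := ObjectProperty.homMk (prod.map (𝟙 X.obj) ((yon S).map ι))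
  have hbc : ∀ (P : MorphismProperty Scheme.{u}) [P.IsStableUnderBaseChange], P ι.left → RepWith P f.hom :=
    fun P _ hP => MorphismProperty.of_isPullback (isPullback_prod_snd X.obj ((yon S).map ι))
      ((repWith_yon_map_iff _ ι).2 hP)
  have hfin : finLocFree ι.left := by
    have : Module.Finite k' N := Module.Finite.of_restrictScalars_finite k k' N
    have : IsFinite (Spec.map (CommRingCat.ofHom (algebraMap k' N))) :=
      (IsFinite.SpecMap_iff _).2 (RingHom.finite_algebraMap.2 inferInstance)
    have : Flat (Spec.map (CommRingCat.ofHom (algebraMap k' N))) := Groth.Agent.AlgSpB.flat_of_field _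
    have : LocallyOfFinitePresentation (Spec.map (CommRingCat.ofHom (algebraMap k' N))) :=
      (LocallyOfFinitePresentation.SpecMap_iff _).2 (RingHom.finitePresentation_algebraMap.2
        (Algebra.FinitePresentation.of_finiteType.1 inferInstance))
    exact ⟨‹IsFinite _›, ‹Flat _›, ‹LocallyOfFinitePresentation _›⟩
  have hsurj : Surjective ι.left :=
    ⟨fun y => ⟨IsLocalRing.closedPoint N, @Subsingleton.elim _ (inferInstanceAs (Subsingleton (PrimeSpectrum k'))) _ _⟩⟩
  have hf : IsFinLocFreeMor f.hom := hbc finLocFree hfin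
  have hinj := injective_map f.hom (hbc @UniversallyInjective (universallyInjective_of_purelyInseparable k' N))
  obtain ⟨T, ⟨e⟩⟩ := exists_iso_of_isRepresentable hNrep
  refine isRepresentable_of_forall_nhd ⟨_, hsp ko⟩ fun y => ?_
  obtain ⟨p, hp⟩ := exists_eq_ofPt_toHom y
  obtain ⟨R, snd, fst, sq⟩ := hf.1 p.toHom
  have hs' : Surjective snd.left := (hbc @Surjective hsurj).2 _ _ _ sq
  obtain ⟨t₀⟩ : Nonempty p.pt.left := inferInstanceAs (Nonempty (Spec (CommRingCat.of p.K)))
  obtain ⟨r, hr⟩ := snd.left.surjective t₀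
  let z := Points.ofPt fst r
  have hz : Points.map f.hom z = y := by rw [Points.map_ofPt, sq.w, ofPt_map_comp, hp]
  obtain ⟨O, hO, hrO, -⟩ := exists_isAffineOpen_mem_and_subset
    (x := Points.toScheme T (Points.map e.inv z)) (U := ⊤) trivial
  let U : Over S := Over.mk (O.ι ≫ T.hom)
  have : IsAffine U.left := hO
  let iU : U ⟶ T := Over.homMk O.ι rfl
  refine exists_scheme_nhd_of_fibre f hf (hbc @Surjective hsurj) y ((yon S).map iU ≫ e.hom)
    ((MorphismProperty.cancel_right_of_respectsIso (RepWith @IsOpenImmersion : MorphismProperty (Sp S)) _ _).2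
      ((repWith_yon_map_iff _ iU).2 (inferInstanceAs (IsOpenImmersion O.ι)))) fun w hw => ?_
  rw [show w = z from hinj (hw.trans hz.symm)]
  refine ⟨⟨_, hrO⟩, ?_⟩
  rw [ofPt_map_comp, Points.ofPt_eq_map_ofScheme]
  change Points.map e.hom (Points.ofScheme T (Points.toScheme T (Points.map e.inv z))) = z
  rw [Points.ofScheme_toScheme, ← Points.map_comp, e.inv_hom_id, Points.map_id]

end Groth.Agent.AlgSpB.SepDescent
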